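/-
Maps of bundles of constant rank.
-/
import Groth.Agent.LocFree.Rank
import Groth.Agent.FlatFunLib.GenRepBasic

set_option autoImplicit false
set_option linter.style.haveILetI false
set_option linter.unusedSectionVars false
set_option backward.isDefEq.respectTransparency false
set_option backward.isDefEq.respectTransparency.types false
set_option maxHeartbeats 1000000

universe u

open CategoryTheory CategoryTheory.Limits AlgebraicGeometry TopologicalSpace
open scoped TensorProduct

noncomputable section

namespace Groth.Agent.NoriRank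

/-- The fibre rank of a pullback. -/
theorem rk_pullback {X Y : Scheme.{u}} (a : Y ⟶ X) (F : X.Modules) (y : Y) :
    LocFree.rk ((Scheme.Modules.pullback a).obj F) y = LocFree.rk F (a y) := by
  let R := X.presheaf.stalk (a y)
  let L := Y.presheaf.stalk y
  letI : Algebra R L := (a.stalkMap y).hom.toAlgebra
  haveI : IsLocalHom (algebraMap R L) := inferInstanceAs (IsLocalHom (a.stalkMap y).hom)
  let κR := IsLocalRing.ResidueField R
  let κL := IsLocalRing.ResidueField L
  haveI : IsScalarTower R κR κL := IsScalarTower.of_algebraMap_eq fun _ => rfl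
  let e : ((Scheme.Modules.pullback a).obj F).presheaf.stalk y ≃ₗ[L] L ⊗[R] F.presheaf.stalk (a y) :=
    ((KFlat.pullStalkIso a y).app F).toLinearEquiv
  let e1 : κL ⊗[L] ((Scheme.Modules.pullback a).obj F).presheaf.stalk y ≃ₗ[κL] κL ⊗[R] F.presheaf.stalk (a y) :=
    (LinearEquiv.baseChange L κL _ _ e).trans (TensorProduct.AlgebraTensorModule.cancelBaseChange R L κL κL _)
  let e2 : κL ⊗[κR] (κR ⊗[R] F.presheaf.stalk (a y)) ≃ₗ[κL] κL ⊗[R] F.presheaf.stalk (a y) :=
    TensorProduct.AlgebraTensorModule.cancelBaseChange R κR κL κL _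
  exact (e1.trans e2.symm).finrank_eq.trans Module.finrank_baseChange

/-- On a reduced noetherian Jacobson scheme the rank at closed points determines local freeness. -/
theorem isFinLocFree_of_closed {X : Scheme.{u}} [IsReduced X] [JacobsonSpace X] {M : X.Modules}
    (hM : Coh.IsQCoh M) (hFT : CohB1.IsFT M) (n : ℕ) (h : ∀ y : X, IsClosed ({y} : Set X) → LocFree.rk M y = n) :
    FlatMod.IsFinLocFree M := by
  have hopen : ∀ z : X, ∃ U : X.Opens, z ∈ U ∧ ∀ y ∈ U, LocFree.rk M y ≤ LocFree.rk M z := by
    intro z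
    obtain ⟨U, hU, hz, -⟩ := exists_isAffineOpen_mem_and_subset (X := X) (x := z) (U := ⊤) trivial
    haveI := hM
    haveI := QC.finite_sections hU (M := M) hFT
    obtain ⟨r, s, hzr, hs⟩ := LocFree.exists_spanning hU hM hz
    refine ⟨X.basicOpen r, hzr, fun y hy => ?_⟩
    have h1 := LocFree.span_residue _ (LocFree.span_germ (hU.basicOpen r) hM hy s hs)
    have h2 := finrank_range_le_card (R := IsLocalRing.ResidueField (X.presheaf.stalk y))
      (fun i => (1 : IsLocalRing.ResidueField (X.presheaf.stalk y)) ⊗ₜ[X.presheaf.stalk y]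
        WeakAssLib.mgerm M hy (s i))
    rw [Set.finrank, h1, finrank_top, Fintype.card_fin] at h2
    exact h2
  have hall : ∀ z : X, LocFree.rk M z = n := by
    intro z
    obtain ⟨U, hz, hU⟩ := hopen z
    obtain ⟨y₀, hy₀, hy₀c⟩ := nonempty_inter_closedPoints (Z := (U : Set X)) ⟨z, hz⟩ U.2.isLocallyClosed
    refine le_antisymm ?_ (h y₀ hy₀c ▸ hU y₀ hy₀)
    obtain ⟨y, hy, hyc⟩ := nonempty_inter_closedPoints (Z := closure ({z} : Set X)) ⟨z, subset_closure rfl⟩
      isClosed_closure.isLocallyClosed
    obtain ⟨V, hyV, hV⟩ := hopen y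
    exact h y hyc ▸ hV z ((specializes_iff_mem_closure.2 hy).mem_open V.2 hyV)
  refine LocFree.isFinLocFree_of_rank hM hFT ?_ fun D hD m s hs hn => LocFree.indep_of_reduced s hD hM hs hn
  exact IsLocallyConstant.of_constant _ fun a b => (hall a).trans (hall b).symm

end Groth.Agent.NoriRank

end
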