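/-
Modifying a curve in a possibly non-separated scheme at one place.
-/
import Groth.Agent.W7Slope.Basic
import Groth.Agent.SectionExt.Basic
import Groth.Agent.W7Cover.Basic
import Groth.Agent.EtPBC.CurvePoint

set_option autoImplicit false
set_option linter.style.haveILetI false
set_option linter.unusedSectionVars false
set_option backward.isDefEq.respectTransparency false
set_option backward.isDefEq.respectTransparency.types false
set_option maxHeartbeats 1000000

universe u

open CategoryTheory CategoryTheory.Limits AlgebraicGeometry TopologicalSpace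

noncomputable section

namespace Groth.Agent.NoriRank

variable (k : Type u) [Field k] {C X : Scheme.{u}} [IsIntegral C] (sC : C ⟶ Spec (CommRingCat.of k)) [IsProper sC]
  (sX : X ⟶ Spec (CommRingCat.of k)) [LocallyOfFiniteType sX]

/-- If `a` is a proper specialisation of the image of the generic point of a curve, some other map of the
curve passes through both. -/
theorem exists_through (hreg : ∀ x : C, IsRegularLocalRing (C.presheaf.stalk x)) (hdim : topologicalKrullDim C ≤ 1)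
    (γ : C ⟶ X) (hγ : γ ≫ sX = sC) {a : X} (ha : γ (genericPoint C) ⤳ a) (hne : γ (genericPoint C) ≠ a) :
    ∃ γ' : C ⟶ X, γ' ≫ sX = sC ∧ γ' (genericPoint C) = γ (genericPoint C) ∧ ∃ p : C, γ' p = a := by
  haveI : AlgebraicGeometry.IsNoetherian C := by
    haveI : IsLocallyNoetherian C := LocallyOfFiniteType.isLocallyNoetherian sC
    haveI : CompactSpace C := HasAffineProperty.iff_of_isAffine.1 (inferInstance : QuasiCompact sC)
    exact ⟨⟩
  let ξ := genericPoint C
  let K := C.presheaf.stalk ξ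
  letI : Field K := inferInstanceAs (Field C.functionField)
  let ψ : X.presheaf.stalk a ⟶ K := X.presheaf.stalkSpecializes ha ≫ γ.stalkMap ξ
  have hψ : Spec.map ψ ≫ X.fromSpecStalk a = C.fromSpecStalk ξ ≫ γ := by
    simp only [ψ, Spec.map_comp, Category.assoc, Scheme.SpecMap_stalkSpecializes_fromSpecStalk]
    exact Scheme.SpecMap_stalkMap_fromSpecStalk γ
  -- a valuation ring dominating the local ring of `a`
  obtain ⟨V, hle, hloc⟩ := LocalSubring.exists_le_valuationSubring (LocalSubring.range ψ.hom)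
  have hmem : ∀ r, ψ.hom r ∈ V := fun r => hle ⟨r, rfl⟩
  let ψV : X.presheaf.stalk a ⟶ CommRingCat.of V :=
    CommRingCat.ofHom (ψ.hom.codRestrict V.toSubring hmem)
  haveI : IsLocalHom ψV.hom := by
    refine ⟨fun r hr => ?_⟩
    have h1 : IsUnit (Subring.inclusion hle ⟨ψ.hom r, ⟨r, rfl⟩⟩) := hr
    obtain ⟨u, hu⟩ := (hloc.map_nonunit _ h1)
    obtain ⟨s, hs⟩ := (u.inv : (LocalSubring.range ψ.hom).toSubring).2
    by_contra hn
    have hm : r * s ∈ IsLocalRing.maximalIdeal (X.presheaf.stalk a) := Ideal.mul_mem_right _ _ hn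
    have h2 : IsUnit (1 - r * s) := IsLocalRing.isUnit_one_sub_self_of_mem_nonunits _ hm
    have h3 : ψ.hom (1 - r * s) = 0 := by
      rw [map_sub, map_one, map_mul, hs, sub_eq_zero]
      have h4 := congrArg Subtype.val u.val_inv
      rw [hu] at h4
      exact h4.symm
    exact not_isUnit_zero (M₀ := K) (h3 ▸ h2.map ψ.hom)
  let ι : CommRingCat.of V ⟶ K := CommRingCat.ofHom (algebraMap V K)
  have hι : ψV ≫ ι = ψ := rfl
  let g₀ : Spec (CommRingCat.of V) ⟶ X := Spec.map ψV ≫ X.fromSpecStalk a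
  have hg₀ : Spec.map ι ≫ g₀ = C.fromSpecStalk ξ ≫ γ := by
    rw [← hψ, ← hι, Spec.map_comp, Category.assoc]
  -- the centre
  have hex : ValuativeCriterion.Existence sC :=
    ((UniversallyClosed.eq_valuativeCriterion ▸ (inferInstance : UniversallyClosed sC) :
      (ValuativeCriterion.Existence ⊓ @QuasiCompact) sC)).1
  let S : ValuativeCommSq sC :=
    { R := V
      K := K
      i₁ := C.fromSpecStalk ξ
      i₂ := g₀ ≫ sX
      commSq := ⟨by rw [← hγ, ← Category.assoc, ← hg₀, Category.assoc]⟩ }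
  haveI := hex S
  let l : Spec (CommRingCat.of V) ⟶ C := S.commSq.lift
  have hl₁ : Spec.map ι ≫ l = C.fromSpecStalk ξ := S.commSq.fac_left
  have hl₂ : l ≫ sC = g₀ ≫ sX := S.commSq.fac_right
  let p := l (IsLocalRing.closedPoint V)
  let α : C.presheaf.stalk p ⟶ CommRingCat.of V := Scheme.stalkClosedPointTo l
  have hα : Spec.map α ≫ C.fromSpecStalk p = l := Scheme.Spec_stalkClosedPointTo_fromSpecStalk l
  have hspec : ξ ⤳ p := (genericPoint_spec C).specializes trivial
  have hαι : α ≫ ι = C.presheaf.stalkSpecializes hspec := by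
    apply Spec.map_injective
    rw [← cancel_mono (C.fromSpecStalk p), Spec.map_comp, Category.assoc, hα, hl₁,
      Scheme.SpecMap_stalkSpecializes_fromSpecStalk]
  haveI := hreg p
  haveI : IsDomain (C.presheaf.stalk p) := inferInstance
  haveI := W7Slope.isPrincipalIdealRing_of_regular (R := C.presheaf.stalk p)
    ((RegDual.ringKrullDim_stalk_le_topologicalKrullDim p).trans hdim)
  letI : Algebra (C.presheaf.stalk p) K := inferInstanceAs (Algebra (C.presheaf.stalk p) C.functionField)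
  haveI : IsFractionRing (C.presheaf.stalk p) K :=
    inferInstanceAs (IsFractionRing (C.presheaf.stalk p) C.functionField)
  haveI : ValuationRing (C.presheaf.stalk p) := inferInstance
  have hbij : Function.Bijective α.hom := by
    have hc : ∀ b, (α.hom b : K) = algebraMap (C.presheaf.stalk p) K b := fun b => congr($(hαι).hom b)
    refine ⟨fun b c h => IsFractionRing.injective (C.presheaf.stalk p) K ?_, fun v => ?_⟩
    · rw [← hc, ← hc, h]
    · rcases ValuationRing.isInteger_or_isInteger (R := C.presheaf.stalk p) (v : K) with ⟨b, hb⟩ | ⟨b, hb⟩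
      · exact ⟨b, Subtype.ext ((hc b).trans hb)⟩
      · by_cases hv : (v : K) = 0
        · exact ⟨0, by rw [map_zero]; exact Subtype.ext hv.symm⟩
        have h1 : α.hom b * v = 1 := Subtype.ext (by
          push_cast
          rw [hc, hb, inv_mul_cancel₀ hv])
        obtain ⟨u, hu⟩ := isUnit_of_map_unit α.hom b (IsUnit.of_mul_eq_one _ h1)
        refine ⟨(u⁻¹ : (C.presheaf.stalk p)ˣ), ?_⟩
        have h2 : α.hom b * α.hom (u⁻¹ : (C.presheaf.stalk p)ˣ) = 1 := by
          rw [← map_mul, ← hu, Units.mul_inv, map_one]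
        exact (left_inv_eq_right_inv (by rw [mul_comm]; exact h1) h2).symm
  haveI : IsIso α := (ConcreteCategory.isIso_iff_bijective α).2 hbij
  -- spreading out
  let φ : Spec (C.presheaf.stalk p) ⟶ X := Spec.map (inv α) ≫ g₀
  have hφ : φ ≫ sX = C.fromSpecStalk p ≫ sC := by
    simp only [φ, Category.assoc]
    rw [← hl₂, ← hα]
    simp only [← Category.assoc, ← Spec.map_comp, IsIso.hom_inv_id, Spec.map_id, Category.id_comp]
  obtain ⟨W, hpW, f, hf, hfs⟩ := spread_out_of_isGermInjective' sC sX φ hφ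
  have hξW : ξ ∈ W := hspec.mem_open W.2 hpW
  have hfp : f ⟨p, hpW⟩ = a := by
    have hφa : φ (IsLocalRing.closedPoint (C.presheaf.stalk p)) = a := by
      show X.fromSpecStalk a (Spec.map ψV (Spec.map (inv α) _)) = a
      have h2 : Spec.map (inv α) (IsLocalRing.closedPoint (C.presheaf.stalk p)) = IsLocalRing.closedPoint V := by
        haveI : IsLocalHom (inv α).hom := ⟨fun v hv => by
          have h := hv.map α.hom
          rwa [show α.hom ((inv α).hom v) = v from congr($(IsIso.inv_hom_id α).hom v)] at h⟩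
        exact IsLocalRing.comap_closedPoint (inv α).hom
      have h3 : Spec.map ψV (IsLocalRing.closedPoint V) = IsLocalRing.closedPoint (X.presheaf.stalk a) :=
        IsLocalRing.comap_closedPoint ψV.hom
      exact (congrArg (X.fromSpecStalk a) ((congrArg (Spec.map ψV) h2).trans h3)).trans Scheme.fromSpecStalk_closedPoint
    have h1 : W.fromSpecStalkOfMem p hpW (IsLocalRing.closedPoint (C.presheaf.stalk p)) = ⟨p, hpW⟩ := by
      apply Subtype.ext
      exact congr($(W.fromSpecStalkOfMem_ι p hpW) (IsLocalRing.closedPoint (C.presheaf.stalk p))).trans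
        Scheme.fromSpecStalk_closedPoint
    exact ((congrArg f h1).symm.trans congr($(hf) (IsLocalRing.closedPoint (C.presheaf.stalk p))).symm).trans hφa
  -- agreement near the generic point
  let ξW : (W : Scheme.{u}) := ⟨ξ, hξW⟩
  haveI : Nonempty (W : Scheme.{u}) := ⟨ξW⟩
  have hagree : (W : Scheme.{u}).fromSpecStalk ξW ≫ f = (W : Scheme.{u}).fromSpecStalk ξW ≫ W.ι ≫ γ := by
    have e2 : Spec.map (C.presheaf.stalkSpecializes hspec) ≫ W.fromSpecStalkOfMem p hpW =
        W.fromSpecStalkOfMem ξ hξW := by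
      rw [← cancel_mono W.ι, Category.assoc, Scheme.Opens.fromSpecStalkOfMem_ι, Scheme.Opens.fromSpecStalkOfMem_ι,
        Scheme.SpecMap_stalkSpecializes_fromSpecStalk]
    have e3 : W.fromSpecStalkOfMem ξ hξW ≫ f = C.fromSpecStalk ξ ≫ γ := by
      rw [← e2, Category.assoc, ← hf, ← hg₀]
      simp only [φ, ← Category.assoc, ← Spec.map_comp]
      rw [← hαι, IsIso.inv_hom_id_assoc]
    have e4 : W.fromSpecStalkOfMem ξ hξW =
        Spec.map (inv (W.ι.stalkMap ξW)) ≫ (W : Scheme.{u}).fromSpecStalk ξW := rfl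
    rw [← cancel_epi (Spec.map (inv (W.ι.stalkMap ξW))), ← Category.assoc, ← e4, e3, ← Category.assoc, ← e4,
      ← Category.assoc, Scheme.Opens.fromSpecStalkOfMem_ι]
  obtain ⟨U₀, hξU₀, hU₀⟩ := spread_out_unique_of_isGermInjective' f (W.ι ≫ γ) hagree
  let U' : C.Opens := W.ι ''ᵁ U₀
  have hξU' : ξ ∈ U' := ⟨ξW, hξU₀, rfl⟩
  by_cases hpξ : p = ξ
  · exfalso
    obtain ⟨x, hx, hxe⟩ : ∃ x : (W : Scheme.{u}), x ∈ U₀ ∧ x = ξW := ⟨ξW, hξU₀, rfl⟩
    have := congr($(hU₀) ⟨ξW, hξU₀⟩)
    change f ξW = γ ξ at this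
    have he : (⟨p, hpW⟩ : (W : Scheme.{u})) = ξW := Subtype.ext hpξ
    rw [← he, hfp] at this
    exact hne this.symm
  have hpc := W7Cover.isClosed_of_ne_genericPoint sC hdim hpξ
  have hfin := EtPBC.finite_compl_of_nonempty hdim (O := U') ⟨ξ, hξU'⟩
  let V₁ : C.Opens := ⟨{p}ᶜ, hpc.isOpen_compl⟩
  let V₂ : C.Opens := W ⊓ ⟨(((U' : Set C)ᶜ) \ {p})ᶜ, by
    refine (@IsClosed.isOpen_compl _ _ _ ?_)
    rw [← Set.biUnion_of_singleton (((U' : Set C)ᶜ) \ {p})]
    exact (hfin.subset Set.sdiff_subset).isClosed_biUnion fun z hz =>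
      W7Cover.isClosed_of_ne_genericPoint sC hdim fun e => hz.1 (e ▸ hξU')⟩
  have hcov : V₁ ⊔ V₂ = ⊤ := by
    refine eq_top_iff.2 fun x _ => ?_
    by_cases hx : x = p
    · subst hx
      exact Or.inr ⟨hpW, fun h => h.2 rfl⟩
    · exact Or.inl hx
  have hle : V₁ ⊓ V₂ ≤ U' := fun x hx => by
    by_contra h
    exact hx.2.2 ⟨h, hx.1⟩
  obtain ⟨c, hc₁, hc₂⟩ := SectionExt.exists_glue_two V₁ V₂ (V₁.ι ≫ γ) (C.homOfLE (inf_le_left : V₂ ≤ W) ≫ f) (by
    rw [Scheme.homOfLE_ι_assoc, Scheme.homOfLE_homOfLE_assoc]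
    have hUW : U' ≤ W := W.ι_image_le U₀
    rw [← Scheme.homOfLE_ι C (hle.trans hUW), Category.assoc]
    let j : ((V₁ ⊓ V₂ : C.Opens) : Scheme.{u}) ⟶ (U₀ : Scheme.{u}) :=
      IsOpenImmersion.lift U₀.ι (C.homOfLE (hle.trans hUW)) (by
        rintro _ ⟨z, rfl⟩
        rw [Scheme.Opens.range_ι]
        obtain ⟨w, hw, hwz⟩ := hle z.2
        have : C.homOfLE (hle.trans hUW) z = w := W.ι.isOpenEmbedding.injective (by
          refine Eq.trans ?_ hwz.symm
          show (C.homOfLE (hle.trans hUW) ≫ W.ι) z = (V₁ ⊓ V₂).ι z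
          rw [Scheme.homOfLE_ι])
        rw [this]
        exact hw)
    have hj : j ≫ U₀.ι = C.homOfLE (hle.trans hUW) := IsOpenImmersion.lift_fac _ _ _
    rw [← hj, Category.assoc, Category.assoc, hU₀])
  refine ⟨C.topIso.inv ≫ C.homOfLE hcov.ge ≫ c, ?_, ?_, p, ?_⟩
  · have hcs : c ≫ sX = (V₁ ⊔ V₂).ι ≫ sC := by
      refine SectionExt.hom_ext_two ?_ ?_
      · rw [reassoc_of% hc₁, hγ, Scheme.homOfLE_ι_assoc]
      · rw [reassoc_of% hc₂, hfs, Scheme.homOfLE_ι_assoc, Scheme.homOfLE_ι_assoc]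
    rw [Category.assoc, Category.assoc, hcs, Scheme.homOfLE_ι_assoc, ← Category.assoc,
      ← Scheme.topIso_hom, Iso.inv_hom_id, Category.id_comp]
  · show c ((C.homOfLE hcov.ge) (C.topIso.inv ξ)) = γ ξ
    have hz : (C.homOfLE hcov.ge) (C.topIso.inv ξ) = C.homOfLE (le_sup_left : V₁ ≤ V₁ ⊔ V₂) ⟨ξ, fun h => hpξ h.symm⟩ := by
      apply (V₁ ⊔ V₂).ι.isOpenEmbedding.injective
      show (C.topIso.inv ≫ C.homOfLE hcov.ge ≫ (V₁ ⊔ V₂).ι) ξ = (C.homOfLE _ ≫ (V₁ ⊔ V₂).ι) _
      rw [Scheme.homOfLE_ι, Scheme.homOfLE_ι, ← Scheme.topIso_hom, Iso.inv_hom_id]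
      rfl
    rw [hz, ← Scheme.Hom.comp_apply, hc₁]
    rfl
  · show c ((C.homOfLE hcov.ge) (C.topIso.inv p)) = a
    have hz : (C.homOfLE hcov.ge) (C.topIso.inv p) =
        C.homOfLE (le_sup_right : V₂ ≤ V₁ ⊔ V₂) ⟨p, hpW, fun h => h.2 rfl⟩ := by
      apply (V₁ ⊔ V₂).ι.isOpenEmbedding.injective
      show (C.topIso.inv ≫ C.homOfLE hcov.ge ≫ (V₁ ⊔ V₂).ι) p = (C.homOfLE _ ≫ (V₁ ⊔ V₂).ι) _
      rw [Scheme.homOfLE_ι, Scheme.homOfLE_ι, ← Scheme.topIso_hom, Iso.inv_hom_id]
      rfl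
    rw [hz, ← Scheme.Hom.comp_apply, hc₂, Scheme.Hom.comp_apply, ← hfp]
    congr 1
    apply W.ι.isOpenEmbedding.injective
    show (C.homOfLE (inf_le_left : V₂ ≤ W) ≫ W.ι) _ = p
    rw [Scheme.homOfLE_ι]
    rfl

end Groth.Agent.NoriRank

end
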