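/-
Maps of Nori-semistable bundles have constant rank.
-/
import Groth.Agent.NoriRank.Basic
import Groth.Agent.NoriRank.Modify
import Groth.Agent.W7Slope.Hom
import Groth.Agent.CurveRR.Multi2
import Groth.Agent.QC.Coherent

set_option autoImplicit false
set_option linter.style.haveILetI false
set_option linter.unusedSectionVars false
set_option backward.isDefEq.respectTransparency false
set_option backward.isDefEq.respectTransparency.types false
set_option maxHeartbeats 1000000

universe u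

open CategoryTheory CategoryTheory.Limits AlgebraicGeometry TopologicalSpace

noncomputable section

namespace Groth.Agent.NoriRank

open W7Slope

variable (k : Type u) [Field k]

/-- Maps between semistable bundles of degree zero are saturated. -/
theorem isFinLocFree_coker {C : Scheme.{u}} [C.Over (Spec (CommRingCat.of k))] [IsIntegral C]
    [IsProper (C ↘ Spec (CommRingCat.of k))] (hC : RegCurve C) {E F : C.Modules} {r r' : ℕ}
    (hE : FlatMod.IsFinLocFreeOfRank r E) (hEs : ModFun.IsSlopeSemistable k C E r) (hE0 : Curv2.deg k C E r = 0)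
    (hF : FlatMod.IsFinLocFreeOfRank r' F) (hFs : ModFun.IsSlopeSemistable k C F r') (hF0 : Curv2.deg k C F r' = 0)
    (ψ : E ⟶ F) : FlatMod.IsFinLocFree (cokernel ψ) := by
  haveI := CurveRR.isNoetherian_of_proper k C
  obtain ⟨I, p, iI, hp, hiI, hfac, hI, hK, hr, hts, hsum, -⟩ := exists_image k hC hE hF ψ
  haveI := hp
  haveI := hiI
  have hIc := CurveRR.isCoh_of_rank hI
  obtain ⟨I', Q, i', l, q, w, hS, hl, hmono, hI', hQ, -, hle, heq, -⟩ := exists_saturation k hC hF hIc iI
  haveI : Mono i' := hS.mono_f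
  have h1 := sub_le k hEs (kernel.ι ψ) hK
  have h2 := sub_le k hFs i' hI'
  rw [hE0, zero_mul] at h1
  rw [hF0, zero_mul] at h2
  have hI0 : (0 : ℤ) ≤ Curv2.deg k C I (grk I) := by
    rcases Nat.eq_zero_or_pos r with h | h
    · have ht : grk I = 0 := by omega
      rw [ht] at hI ⊢
      rw [deg_rank_zero k hI]
    · have : Curv2.deg k C (kernel ψ) (grk (kernel ψ)) ≤ 0 :=
        nonpos_of_mul_nonpos_left h1 (by exact_mod_cast h)
      linarith
  have hI'0 : Curv2.deg k C I' (grk I) ≤ 0 := by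
    rcases Nat.eq_zero_or_pos r' with h | h
    · have ht : grk I = 0 := by omega
      rw [ht] at hI' ⊢
      rw [deg_rank_zero k hI']
    · exact nonpos_of_mul_nonpos_left h2 (by exact_mod_cast h)
  rw [deg_eq hI] at hI0
  rw [deg_eq hI'] at hI'0
  haveI : IsIso l := heq (le_antisymm hle (by linarith))
  have e : cokernel ψ ≅ Q := cokernelIsoOfEq hfac.symm ≪≫ cokernelEpiComp p iI ≪≫ cokernelIsoOfEq hl.symm ≪≫
    cokernelEpiComp l i' ≪≫ IsColimit.coconePointUniqueUpToIso (cokernelIsCokernel i') hS.gIsCokernel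
  exact fun x => let ⟨W, hx, ⟨i⟩⟩ := hQ x
    ⟨W, _, hx, ⟨(Scheme.Modules.restrictFunctor W.ι).mapIso e ≪≫ i⟩⟩

/-- The main theorem. -/
theorem isFinLocFree_cokernel {X : Scheme.{u}} [X.Over (Spec (CommRingCat.of k))]
    [LocallyOfFiniteType (X ↘ Spec (CommRingCat.of k))] [CompactSpace X] [IsReduced X]
    (hne : Nonempty X)
    (hchain : ∀ y z : X, IsClosed ({y} : Set X) → IsClosed ({z} : Set X) → ∃ (n : ℕ) (C : Fin n → Scheme.{u}) (γ : ∀ i, C i ⟶ X),
      (∀ i, AlgebraicGeometry.IsIntegral (C i) ∧ IsProper (γ i ≫ (X ↘ Spec (CommRingCat.of k))) ∧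
        Smooth (γ i ≫ (X ↘ Spec (CommRingCat.of k))) ∧ topologicalKrullDim (C i) = 1) ∧
      _root_.IsConnected (⋃ i, Set.range (γ i).base) ∧ y ∈ ⋃ i, Set.range (γ i).base ∧ z ∈ ⋃ i, Set.range (γ i).base)
    {r r' : ℕ} {E F : X.Modules} (hE : FlatMod.IsFinLocFreeOfRank r E) (hF : FlatMod.IsFinLocFreeOfRank r' F)
    (hEss : ∀ (C : Scheme.{u}) [C.Over (Spec (CommRingCat.of k))], AlgebraicGeometry.IsIntegral C →
      IsProper (C ↘ Spec (CommRingCat.of k)) → Smooth (C ↘ Spec (CommRingCat.of k)) → topologicalKrullDim C = 1 →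
      ∀ (γ : C ⟶ X), γ ≫ (X ↘ Spec (CommRingCat.of k)) = C ↘ Spec (CommRingCat.of k) →
      (Set.range γ.base).Nontrivial →
      ModFun.IsSlopeSemistable k C ((Scheme.Modules.pullback γ).obj E) r ∧
        Curv2.deg k C ((Scheme.Modules.pullback γ).obj E) r = 0)
    (hFss : ∀ (C : Scheme.{u}) [C.Over (Spec (CommRingCat.of k))], AlgebraicGeometry.IsIntegral C →
      IsProper (C ↘ Spec (CommRingCat.of k)) → Smooth (C ↘ Spec (CommRingCat.of k)) → topologicalKrullDim C = 1 →
      ∀ (γ : C ⟶ X), γ ≫ (X ↘ Spec (CommRingCat.of k)) = C ↘ Spec (CommRingCat.of k) →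
      (Set.range γ.base).Nontrivial →
      ModFun.IsSlopeSemistable k C ((Scheme.Modules.pullback γ).obj F) r' ∧
        Curv2.deg k C ((Scheme.Modules.pullback γ).obj F) r' = 0)
    (f : E ⟶ F) : FlatMod.IsFinLocFree (cokernel f) := by
  haveI : IsLocallyNoetherian X := LocallyOfFiniteType.isLocallyNoetherian (X ↘ Spec (CommRingCat.of k))
  haveI : JacobsonSpace X := LocallyOfFiniteType.jacobsonSpace (X ↘ Spec (CommRingCat.of k))
  let M := cokernel f
  let φ : X → ℕ := LocFree.rk M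
  have hM : Coh.IsCoh M :=
    Groth.Agent.QC.isCoh_cokernel (CurveRR.isCoh_of_rank hE).1 (CurveRR.isCoh_of_rank hF) f
  have const : ∀ (C : Scheme.{u}) (γ : C ⟶ X) (_ : IsIntegral C)
      (_ : IsProper (γ ≫ (X ↘ Spec (CommRingCat.of k)))) (_ : Smooth (γ ≫ (X ↘ Spec (CommRingCat.of k))))
      (_ : topologicalKrullDim C = 1) (c : C), φ (γ c) = φ (γ (genericPoint C)) := by
    intro C γ hint hprop hsm hd c
    letI : C.Over (Spec (CommRingCat.of k)) := ⟨γ ≫ (X ↘ Spec (CommRingCat.of k))⟩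
    haveI := hprop
    haveI := hsm
    haveI := hint
    by_cases hnt : (Set.range γ.base).Nontrivial
    · haveI : IsProper (C ↘ Spec (CommRingCat.of k)) := hprop
      haveI : Smooth (C ↘ Spec (CommRingCat.of k)) := hsm
      obtain ⟨hEs, hE0⟩ := hEss C hint hprop hsm hd γ rfl hnt
      obtain ⟨hFs, hF0⟩ := hFss C hint hprop hsm hd γ rfl hnt
      haveI : (Scheme.Modules.pullback γ).IsLeftAdjoint :=
        (Scheme.Modules.pullbackPushforwardAdjunction γ).isLeftAdjoint
      have hc := isFinLocFree_coker k (regCurve_of_smooth (k := k) hd)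
        (CurveRR.Multi.isFinLocFreeOfRank_pullback γ hE) hEs hE0
        (CurveRR.Multi.isFinLocFreeOfRank_pullback γ hF) hFs hF0 ((Scheme.Modules.pullback γ).map f)
      have hc' : FlatMod.IsFinLocFree ((Scheme.Modules.pullback γ).obj M) := fun x => by
        obtain ⟨W, m, hx, ⟨i⟩⟩ := hc x
        exact ⟨W, m, hx, ⟨(Scheme.Modules.restrictFunctor W.ι).mapIso
          (PreservesCokernel.iso (Scheme.Modules.pullback γ) f) ≪≫ i⟩⟩
      show LocFree.rk M (γ c) = LocFree.rk M (γ (genericPoint C))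
      rw [← rk_pullback, ← rk_pullback]
      exact (LocFree.isLocallyConstant_rk hc').apply_eq_of_preconnectedSpace _ _
    · rw [Set.not_nontrivial_iff.1 hnt ⟨c, rfl⟩ ⟨genericPoint C, rfl⟩]
  have spec : ∀ (C : Scheme.{u}) (γ : C ⟶ X) (_ : IsIntegral C)
      (_ : IsProper (γ ≫ (X ↘ Spec (CommRingCat.of k)))) (_ : Smooth (γ ≫ (X ↘ Spec (CommRingCat.of k))))
      (_ : topologicalKrullDim C = 1) (a : X), γ (genericPoint C) ⤳ a → φ a = φ (γ (genericPoint C)) := by
    intro C γ hint hprop hsm hd a ha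
    rcases eq_or_ne (γ (genericPoint C)) a with h | h
    · rw [h]
    haveI := hint
    haveI := hprop
    haveI := hsm
    obtain ⟨γ', hγ', hgen, p, hp⟩ := exists_through k (γ ≫ (X ↘ Spec (CommRingCat.of k)))
      (X ↘ Spec (CommRingCat.of k))
      (SmLocalST.isRegularLocalRing_stalk_of_smooth_field (γ ≫ (X ↘ Spec (CommRingCat.of k)))) hd.le γ rfl ha h
    have h' := const C γ' hint (by rw [hγ']; exact hprop) (by rw [hγ']; exact hsm) hd p
    rw [hp, hgen] at h'
    exact h'
  obtain ⟨x₀⟩ := hne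
  obtain ⟨y, -, hy⟩ := nonempty_inter_closedPoints (Z := (Set.univ : Set X)) ⟨x₀, trivial⟩ isClosed_univ.isLocallyClosed
  refine isFinLocFree_of_closed hM.1 hM.2 (φ y) fun z hz => ?_
  obtain ⟨n, C, γ, hC, hconn, hyS, hzS⟩ := hchain y z hy hz
  haveI := fun i => (hC i).1
  let A : Set X := ⋃ i ∈ {i : Fin n | φ (γ i (genericPoint (C i))) = φ y}, closure {γ i (genericPoint (C i))}
  let B : Set X := ⋃ i ∈ {i : Fin n | φ (γ i (genericPoint (C i))) ≠ φ y}, closure {γ i (genericPoint (C i))}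
  have hval : ∀ i a, a ∈ closure ({γ i (genericPoint (C i))} : Set X) → φ a = φ (γ i (genericPoint (C i))) :=
    fun i a ha => spec (C i) (γ i) (hC i).1 (hC i).2.1 (hC i).2.2.1 (hC i).2.2.2 a (specializes_iff_mem_closure.2 ha)
  have hAv : ∀ a ∈ A, φ a = φ y := fun a ha => by
    obtain ⟨i, hi, hia⟩ := Set.mem_iUnion₂.1 ha
    exact (hval i a hia).trans hi
  have hBv : ∀ a ∈ B, φ a ≠ φ y := fun a ha => by
    obtain ⟨i, hi, hia⟩ := Set.mem_iUnion₂.1 ha
    exact fun h => hi ((hval i a hia).symm.trans h)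
  have hsub : (⋃ i, Set.range (γ i).base) ⊆ A ∪ B := fun a ha => by
    obtain ⟨i, c, rfl⟩ := Set.mem_iUnion.1 ha
    have hc : (γ i).base c ∈ closure ({γ i (genericPoint (C i))} : Set X) :=
      specializes_iff_mem_closure.1 (((genericPoint_spec (C i)).specializes trivial).map (γ i).base.hom.continuous)
    by_cases h : φ (γ i (genericPoint (C i))) = φ y
    · exact Or.inl (Set.mem_iUnion₂.2 ⟨i, h, hc⟩)
    · exact Or.inr (Set.mem_iUnion₂.2 ⟨i, h, hc⟩)
  have hAc : IsClosed A := (Set.toFinite _).isClosed_biUnion fun i _ => isClosed_closure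
  have hBc : IsClosed B := (Set.toFinite _).isClosed_biUnion fun i _ => isClosed_closure
  by_contra hne'
  have hyA : y ∈ A := (hsub hyS).resolve_right fun h => hBv y h rfl
  have hzB : z ∈ B := (hsub hzS).resolve_left fun h => hne' (hAv z h)
  obtain ⟨a, -, haA, haB⟩ := isPreconnected_closed_iff.1 hconn.isPreconnected A B hAc hBc hsub ⟨y, hyS, hyA⟩ ⟨z, hzS, hzB⟩
  exact hBv a haB (hAv a haA)

end Groth.Agent.NoriRank

end
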